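import Groth.Agent.PerfDual.Tri

/-!
# Biduality on perfect objects
-/

set_option autoImplicit false
set_option linter.style.haveILetI false
set_option backward.isDefEq.respectTransparency false
set_option maxHeartbeats 800000

universe u

open CategoryTheory CategoryTheory.Limits CategoryTheory.Pretriangulated AlgebraicGeometry Opposite
open Groth.Agent.DCohLib

attribute [local instance] HasDerivedCategory.standard

noncomputable section

namespace Groth.Agent.PerfDual

variable {X : Scheme.{u}}

/-- The dual of a complex. -/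
abbrev dualCx (E : CochainComplex X.Modules ℤ) : CochainComplex X.Modules ℤ :=
  (hCx ((resX X).obj E)).obj (Jc X)

/-- The biduality map on complexes. -/
def τApp (E : CochainComplex X.Modules ℤ) :
    DerivedCategory.Q.obj E ⟶ ((Dv X).rightOp ⋙ Dv X).obj (DerivedCategory.Q.obj E) :=
  haveI : IsIso (DerivedCategory.Q.map ((resXπ X).app E)) := isIso_Q_resXπ E
  inv (DerivedCategory.Q.map ((resXπ X).app E)) ≫ DerivedCategory.Q.map (bidualC ((resX X).obj E) (Jc X)) ≫
    (dvIso X).inv.app (op (dualCx E)) ≫ (Dv X).map ((dvIso X).hom.app (op E)).op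

/-- The biduality transformation on complexes. -/
def τ (X : Scheme.{u}) :
    DerivedCategory.Q ⟶ (DerivedCategory.Q (C := X.Modules)) ⋙ ((Dv X).rightOp ⋙ Dv X) where
  app := τApp
  naturality E E' g := by
    haveI : IsIso (DerivedCategory.Q.map ((resXπ X).app E)) := isIso_Q_resXπ E
    haveI : IsIso (DerivedCategory.Q.map ((resXπ X).app E')) := isIso_Q_resXπ E'
    let Fg : dualCx E' ⟶ dualCx E := (hMap ((resX X).map g)).app (Jc X)
    have h1 : DerivedCategory.Q.map g ≫ inv (DerivedCategory.Q.map ((resXπ X).app E')) =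
        inv (DerivedCategory.Q.map ((resXπ X).app E)) ≫ DerivedCategory.Q.map ((resX X).map g) := by
      rw [IsIso.comp_inv_eq, Category.assoc, IsIso.eq_inv_comp, ← Functor.map_comp, ← Functor.map_comp,
        (resXπ X).naturality, Functor.id_map]
    have h2 : DerivedCategory.Q.map ((resX X).map g) ≫ DerivedCategory.Q.map (bidualC ((resX X).obj E') (Jc X)) =
        DerivedCategory.Q.map (bidualC ((resX X).obj E) (Jc X)) ≫ (Φ X).map Fg.op :=
      ((DerivedCategory.Q.map_comp _ _).symm.trans (congrArg _ (bidual_natural ((resX X).map g) ((resX X).map Fg)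
        ((resXπ X).app (dualCx E')) ((resXπ X).app (dualCx E)) ((resXπ X).naturality Fg).symm))).trans
        (DerivedCategory.Q.map_comp _ _)
    have h3 : (Φ X).map Fg.op ≫ (dvIso X).inv.app (op (dualCx E')) =
        (dvIso X).inv.app (op (dualCx E)) ≫ (Dv X).map (DerivedCategory.Q.map Fg).op :=
      (dvIso X).inv.naturality Fg.op
    have h4 : (Dv X).map (DerivedCategory.Q.map Fg).op ≫ (Dv X).map ((dvIso X).hom.app (op E')).op =
        (Dv X).map ((dvIso X).hom.app (op E)).op ≫ (Dv X).map ((Dv X).map (DerivedCategory.Q.map g).op).op := by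
      rw [← Functor.map_comp, ← Functor.map_comp, ← op_comp, ← op_comp]
      refine congrArg (fun x => (Dv X).map (Quiver.Hom.op x)) ?_
      exact ((dvIso X).hom.naturality g.op).symm
    show DerivedCategory.Q.map g ≫ τApp E' = τApp E ≫ (Dv X).map ((Dv X).map (DerivedCategory.Q.map g).op).op
    simp only [τApp, Category.assoc]
    rw [reassoc_of% h1, reassoc_of% h2, reassoc_of% h3, h4]

/-- The biduality transformation. -/
def bid (X : Scheme.{u}) : 𝟭 (DCoh.D X) ⟶ (Dv X).rightOp ⋙ Dv X :=
  let W := HomologicalComplex.quasiIso X.Modules (ComplexShape.up ℤ)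
  letI : Localization.Lifting DerivedCategory.Q W DerivedCategory.Q (𝟭 (DCoh.D X)) := ⟨Functor.rightUnitor _⟩
  letI : Localization.Lifting DerivedCategory.Q W (DerivedCategory.Q ⋙ ((Dv X).rightOp ⋙ Dv X))
      ((Dv X).rightOp ⋙ Dv X) := ⟨Iso.refl _⟩
  Localization.liftNatTrans DerivedCategory.Q W DerivedCategory.Q
    (DerivedCategory.Q ⋙ ((Dv X).rightOp ⋙ Dv X)) _ _ (τ X)

theorem bid_app_Q (E : CochainComplex X.Modules ℤ) : (bid X).app (DerivedCategory.Q.obj E) = (τ X).app E := by
  simp only [bid, Localization.liftNatTrans_app]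
  exact (Category.id_comp _).trans (Category.comp_id _)

theorem isIso_bid_app {A : DCoh.D X} (hA : DCoh.IsPerfect A) : IsIso ((bid X).app A) := by
  let E := DerivedCategory.Q.objPreimage A
  let e : DerivedCategory.Q.obj E ≅ A := DerivedCategory.Q.objObjPreimageIso A
  rw [← NatTrans.isIso_app_iff_of_iso (bid X) e, bid_app_Q]
  haveI hπ : IsIso (DerivedCategory.Q.map ((resXπ X).app E)) := isIso_Q_resXπ E
  haveI : IsIso (DerivedCategory.Q.map (bidualC ((resX X).obj E) (Jc X))) :=
    (DerivedCategory.isIso_Q_map_iff_quasiIso (C := X.Modules) _).2 (quasiIso_bidual (isKFlat_resX E)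
      (isPerfect_iso ((asIso (DerivedCategory.Q.map ((resXπ X).app E))) ≪≫ e).symm hA) (ηc X) (quasiIso_ηc X))
  show IsIso (inv (DerivedCategory.Q.map ((resXπ X).app E)) ≫ DerivedCategory.Q.map (bidualC _ _) ≫
    (dvIso X).inv.app _ ≫ (Dv X).map _)
  infer_instance

/-- Duality on perfect objects. -/
def DP (X : Scheme.{u}) : ((SGA6.perfP X).FullSubcategory)ᵒᵖ ⥤ (SGA6.perfP X).FullSubcategory :=
  ObjectProperty.lift _ ((ObjectProperty.ι (SGA6.perfP X)).op ⋙ Dv X) fun A => isPerfect_Dv A.unop.property

/-- Biduality on perfect objects. -/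
def bidP (X : Scheme.{u}) : 𝟭 ((SGA6.perfP X).FullSubcategory) ≅ (DP X).rightOp ⋙ DP X :=
  NatIso.ofComponents
    (fun A => (ObjectProperty.ι (SGA6.perfP X)).preimageIso (@asIso _ _ _ _ _ (isIso_bid_app A.property)))
    fun {A B} f => by
      refine (ObjectProperty.ι (SGA6.perfP X)).map_injective ?_
      simp only [Functor.map_comp, Functor.preimageIso_hom, Functor.map_preimage, asIso_hom]
      exact (bid X).naturality f.hom

/-- Duality on perfect objects is an equivalence. -/
instance isEquivalence_DP (X : Scheme.{u}) : (DP X).IsEquivalence :=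
  (CategoryTheory.Equivalence.mk (DP X) (DP X).rightOp
    (NatIso.ofComponents (fun A => ((bidP X).app A.unop).symm.op) fun {A B} f =>
      Quiver.Hom.unop_inj ((bidP X).inv.naturality f.unop).symm)
    (bidP X).symm).isEquivalence_functor

end Groth.Agent.PerfDual
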