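import Groth.Agent.DCohLib.Bidual
import Groth.Agent.DCohMore.ProjLoc
import Groth.Agent.DCohMore.FinHom

/-!
# The duality functor of the derived category
-/

set_option autoImplicit false
set_option linter.style.haveILetI false
set_option backward.isDefEq.respectTransparency false
set_option maxHeartbeats 800000

universe u

open CategoryTheory CategoryTheory.Limits AlgebraicGeometry Opposite
open Groth.Agent.DCohLib

attribute [local instance] HasDerivedCategory.standard

noncomputable section

namespace Groth.Agent.PerfDual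

variable {X : Scheme.{u}}

/-- An injective resolution of the structure sheaf. -/
def Jc (X : Scheme.{u}) : CochainComplex X.Modules ℤ := (hres_modules X (unitCx X)).choose

/-- The augmentation of the resolution. -/
def ηc (X : Scheme.{u}) : unitCx X ⟶ Jc X := (hres_modules X (unitCx X)).choose_spec.choose

instance isKInjective_Jc (X : Scheme.{u}) : (Jc X).IsKInjective :=
  (hres_modules X (unitCx X)).choose_spec.choose_spec.1

theorem quasiIso_ηc (X : Scheme.{u}) : QuasiIso (ηc X) :=
  (hres_modules X (unitCx X)).choose_spec.choose_spec.2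

theorem tenL_map_add (M : CochainComplex X.Modules ℤ) {K K' : CochainComplex X.Modules ℤ} (f g : K ⟶ K') :
    (DCoh.tensorCx.obj M).map (f + g) = (DCoh.tensorCx.obj M).map f + (DCoh.tensorCx.obj M).map g := by
  rw [← cancel_mono (symS M K').hom, Preadditive.add_comp, symS_natural_right, symS_natural_right,
    symS_natural_right, ← Preadditive.comp_add]
  exact congrArg (_ ≫ ·) ((tenR M).map_add)

theorem symm_add {K M : CochainComplex X.Modules ℤ} (J : CochainComplex X.Modules ℤ) (f g : M ⟶ (hCx K).obj J) :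
    ((hAdj K).homEquiv M J).symm (f + g) =
      ((hAdj K).homEquiv M J).symm f + ((hAdj K).homEquiv M J).symm g := by
  simp only [Adjunction.homEquiv_counit, Functor.map_add, Preadditive.add_comp]

theorem hMap_app_add {K K' : CochainComplex X.Modules ℤ} (β β' : K' ⟶ K) (J : CochainComplex X.Modules ℤ) :
    (hMap (β + β')).app J = (hMap β).app J + (hMap β').app J := by
  refine ((hAdj K').homEquiv _ J).symm.injective ?_
  rw [symm_add, ← Category.id_comp ((hMap (β + β')).app J), ← Category.id_comp ((hMap β).app J),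
    ← Category.id_comp ((hMap β').app J), hAdj_symm_hMap, hAdj_symm_hMap, hAdj_symm_hMap, tenL_map_add,
    Preadditive.add_comp]

section Linear

variable {k : Type u} [CommRing k] [X.Over (Spec (CommRingCat.of k))]

theorem tenL_map_smul_id (M K : CochainComplex X.Modules ℤ) (a : k) :
    (DCoh.tensorCx.obj M).map (a • 𝟙 K) = a • 𝟙 ((DCoh.tensorCx.obj M).obj K) := by
  rw [← cancel_mono (symS M K).hom, symS_natural_right, DCohMore.FinHom.tensorCx_map_smul,
    Linear.comp_smul, Linear.smul_comp, Category.id_comp]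
  erw [Category.comp_id]

theorem hMap_app_smul_id (K : CochainComplex X.Modules ℤ) (a : k) (J : CochainComplex X.Modules ℤ) :
    (hMap (a • 𝟙 K)).app J = a • 𝟙 ((hCx K).obj J) := by
  refine ((hAdj K).homEquiv _ J).symm.injective ?_
  rw [← Category.id_comp ((hMap (a • 𝟙 K)).app J), hAdj_symm_hMap, tenL_map_smul_id, Linear.smul_comp,
    Category.id_comp, Adjunction.homEquiv_counit, Adjunction.homEquiv_counit]
  have h : (tenR K).map (a • 𝟙 ((hCx K).obj J)) = a • 𝟙 ((tenR K).obj ((hCx K).obj J)) :=
    DCohMore.FinHom.tensorCx_map_smul _ _ a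
  rw [h, Linear.smul_comp, Category.id_comp]
  erw [CategoryTheory.Functor.map_id, Category.id_comp]

end Linear

/-- Equal maps of K-flat complexes in the derived category induce equal maps of internal Hom complexes. -/
theorem Q_hMap_eq {P P' : CochainComplex X.Modules ℤ} (u v : P ⟶ P') (J : CochainComplex X.Modules ℤ)
    [J.IsKInjective] (hP : DCoh.IsKFlat P) (h : DerivedCategory.Q.map u = DerivedCategory.Q.map v) :
    DerivedCategory.Q.map ((hMap u).app J) = DerivedCategory.Q.map ((hMap v).app J) := by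
  let N := (hCx P').obj J
  let M := (resX X).obj N
  let π : M ⟶ N := (resXπ X).app N
  haveI : IsIso (DerivedCategory.Q.map π) := isIso_Q_resXπ N
  haveI := isKInjective_hCx hP J
  let W := HomologicalComplex.quasiIso X.Modules (ComplexShape.up ℤ)
  have hW : W.IsInvertedBy (DCoh.tensorCx.obj M ⋙ DerivedCategory.Q) := fun A B f hf =>
    Localization.inverts DerivedCategory.Q W _ ((HomologicalComplex.mem_quasiIso_iff _).2
      (quasiIso_tensorCx_obj_map (isKFlat_resX N) f ((HomologicalComplex.mem_quasiIso_iff _).1 hf)))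
  have hten : DerivedCategory.Q.map ((DCoh.tensorCx.obj M).map u) =
      DerivedCategory.Q.map ((DCoh.tensorCx.obj M).map v) := by
    have e := Localization.fac (DCoh.tensorCx.obj M ⋙ DerivedCategory.Q) hW DerivedCategory.Q
    have hu := e.hom.naturality u
    have hv := e.hom.naturality v
    simp only [Functor.comp_map] at hu hv
    rw [← cancel_epi (e.hom.app P), ← hu, ← hv, h]
  refine (cancel_epi (DerivedCategory.Q.map π)).1 ?_
  rw [← Functor.map_comp, ← Functor.map_comp, Q_map_eq_iff, quotient_symm_eq_iff, ← Q_map_eq_iff,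
    hAdj_symm_hMap, hAdj_symm_hMap, Functor.map_comp, Functor.map_comp, hten]

/-- A quasi-isomorphism of K-flat complexes gives one of internal Hom complexes. -/
theorem quasiIso_hMap {K' K : CochainComplex X.Modules ℤ} (β : K' ⟶ K) (hK' : DCoh.IsKFlat K')
    (hK : DCoh.IsKFlat K) (hβ : QuasiIso β) (J : CochainComplex X.Modules ℤ) [J.IsKInjective] :
    QuasiIso ((hMap β).app J) :=
  quasiIso_of_local _ fun _ => ⟨⊤, trivial, quasiIso_res_hMap β hK' hK (quasiIso_res_of_quasiIso β hβ) J⟩

/-- The duality functor on complexes. -/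
def Φ (X : Scheme.{u}) : (CochainComplex X.Modules ℤ)ᵒᵖ ⥤ DCoh.D X where
  obj E := DerivedCategory.Q.obj ((hCx ((resX X).obj E.unop)).obj (Jc X))
  map f := DerivedCategory.Q.map ((hMap ((resX X).map f.unop)).app (Jc X))
  map_id E := by
    rw [unop_id, (resX X).map_id, hMap_id, CategoryTheory.Functor.map_id]
  map_comp {A B C} f g := by
    show DerivedCategory.Q.map ((hMap ((resX X).map (g.unop ≫ f.unop))).app (Jc X)) = _
    rw [(resX X).map_comp, ← hMap_app_comp, Functor.map_comp]

theorem isInverted_Φ (X : Scheme.{u}) :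
    (HomologicalComplex.quasiIso X.Modules (ComplexShape.up ℤ)).op.IsInvertedBy (Φ X) := fun E F f hf => by
  refine (DerivedCategory.isIso_Q_map_iff_quasiIso (C := X.Modules) _).2
    (quasiIso_hMap _ (isKFlat_resX _) (isKFlat_resX _) ?_ _)
  haveI : QuasiIso f.unop := (HomologicalComplex.mem_quasiIso_iff _).1 hf
  haveI := quasiIso_resXπ (X := X) E.unop
  haveI := quasiIso_resXπ (X := X) F.unop
  haveI : QuasiIso ((resX X).map f.unop ≫ (resXπ X).app E.unop) := by
    rw [(resXπ X).naturality, Functor.id_map]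
    infer_instance
  exact quasiIso_of_comp_right _ ((resXπ X).app E.unop)

/-- The duality functor of the derived category. -/
def Dv (X : Scheme.{u}) : (DCoh.D X)ᵒᵖ ⥤ DCoh.D X :=
  Localization.lift (Φ X) (isInverted_Φ X) DerivedCategory.Q.op

/-- The duality functor on complexes and on the derived category agree. -/
def dvIso (X : Scheme.{u}) : DerivedCategory.Q.op ⋙ Dv X ≅ Φ X :=
  Localization.fac (Φ X) (isInverted_Φ X) DerivedCategory.Q.op

theorem Dv_map_Q {E F : CochainComplex X.Modules ℤ} (g : E ⟶ F) :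
    (Dv X).map (DerivedCategory.Q.map g).op =
      (dvIso X).hom.app (op F) ≫ (Φ X).map g.op ≫ (dvIso X).inv.app (op E) := by
  have h := (dvIso X).hom.naturality g.op
  simp only [Functor.comp_map, Functor.op_map] at h
  rw [← reassoc_of% h, Iso.hom_inv_id_app]
  exact (Category.comp_id _).symm

theorem Φ_map_add {E F : CochainComplex X.Modules ℤ} (f g : E ⟶ F) :
    (Φ X).map (f + g).op = (Φ X).map f.op + (Φ X).map g.op := by
  haveI : IsIso (DerivedCategory.Q.map ((resXπ X).app F)) := isIso_Q_resXπ F
  show DerivedCategory.Q.map _ = DerivedCategory.Q.map _ + DerivedCategory.Q.map _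
  rw [← Functor.map_add, ← hMap_app_add]
  refine Q_hMap_eq _ _ _ (isKFlat_resX E) ((cancel_mono (DerivedCategory.Q.map ((resXπ X).app F))).1 ?_)
  rw [← Functor.map_comp, ← Functor.map_comp, Preadditive.add_comp]
  refine congrArg _ ?_
  show (resX X).map (f + g) ≫ (resXπ X).app F =
    (resX X).map f ≫ (resXπ X).app F + (resX X).map g ≫ (resXπ X).app F
  rw [(resXπ X).naturality, (resXπ X).naturality, (resXπ X).naturality]
  exact Preadditive.comp_add _ _ _ _ _ _

/-- Any pair of objects has representatives with all maps between them represented. -/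
theorem exists_rep (B : DCoh.D X) : ∃ (R : CochainComplex X.Modules ℤ) (_ : R.IsKInjective),
    Nonempty (DerivedCategory.Q.obj R ≅ B) := by
  obtain ⟨R, φ, hR, hφ⟩ := hres_modules X (DerivedCategory.Q.objPreimage B)
  haveI : IsIso (DerivedCategory.Q.map φ) :=
    (DerivedCategory.isIso_Q_map_iff_quasiIso (C := X.Modules) _).2 hφ
  exact ⟨R, hR, ⟨(asIso (DerivedCategory.Q.map φ)).symm ≪≫ DerivedCategory.Q.objObjPreimageIso B⟩⟩

theorem Dv_map_add {A B : DCoh.D X} (f g : A ⟶ B) :
    (Dv X).map (f + g).op = (Dv X).map f.op + (Dv X).map g.op := by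
  obtain ⟨R, hR, ⟨e⟩⟩ := exists_rep B
  let e' := DerivedCategory.Q.objObjPreimageIso A
  haveI := hR
  obtain ⟨f', hf⟩ := exists_Q_map (e'.hom ≫ f ≫ e.inv)
  obtain ⟨g', hg⟩ := exists_Q_map (e'.hom ≫ g ≫ e.inv)
  have hf' : f = e'.inv ≫ DerivedCategory.Q.map f' ≫ e.hom := by rw [hf]; simp
  have hg' : g = e'.inv ≫ DerivedCategory.Q.map g' ≫ e.hom := by rw [hg]; simp
  have h : f + g = e'.inv ≫ DerivedCategory.Q.map (f' + g') ≫ e.hom := by
    rw [Functor.map_add, Preadditive.add_comp, Preadditive.comp_add, ← hf', ← hg']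
  rw [h, hf', hg']
  simp only [op_comp, Functor.map_comp, Dv_map_Q, Φ_map_add, Category.assoc]
  simp only [Preadditive.comp_add, Preadditive.add_comp]

instance additive_Dv (X : Scheme.{u}) : (Dv X).Additive where
  map_add {A B} {f g} := Dv_map_add f.unop g.unop

section Linear

variable {k : Type u} [CommRing k] [X.Over (Spec (CommRingCat.of k))]

theorem Dv_map_smul_id (A : DCoh.D X) (a : k) : (Dv X).map (a • 𝟙 A).op = a • 𝟙 ((Dv X).obj (op A)) := by
  let E := DerivedCategory.Q.objPreimage A
  let e := DerivedCategory.Q.objObjPreimageIso A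
  have h : a • 𝟙 A = e.inv ≫ DerivedCategory.Q.map (a • 𝟙 E) ≫ e.hom := by
    rw [Functor.map_smul, CategoryTheory.Functor.map_id, Linear.smul_comp, Category.id_comp, Linear.comp_smul,
      e.inv_hom_id]
  have hΦ : (Φ X).map (a • 𝟙 E).op = a • 𝟙 ((Φ X).obj (op E)) := by
    haveI : IsIso (DerivedCategory.Q.map ((resXπ X).app E)) := isIso_Q_resXπ E
    show DerivedCategory.Q.map ((hMap ((resX X).map (a • 𝟙 E))).app (Jc X)) =
      a • 𝟙 (DerivedCategory.Q.obj ((hCx ((resX X).obj E)).obj (Jc X)))
    rw [← DerivedCategory.Q.map_id, ← Functor.map_smul, ← hMap_app_smul_id]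
    refine Q_hMap_eq _ _ _ (isKFlat_resX E) ((cancel_mono (DerivedCategory.Q.map ((resXπ X).app E))).1 ?_)
    rw [← Functor.map_comp, ← Functor.map_comp, (resXπ X).naturality, Functor.id_map]
    simp
  rw [h, op_comp, op_comp, Functor.map_comp, Functor.map_comp, Dv_map_Q, hΦ]
  simp only [Linear.comp_smul, Linear.smul_comp, Category.assoc, Category.id_comp, Iso.hom_inv_id_app]
  refine congrArg (a • ·) ?_
  erw [Iso.hom_inv_id_app_assoc]
  rw [← Functor.map_comp, ← op_comp, e.inv_hom_id, op_id, CategoryTheory.Functor.map_id]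

theorem Dv_map_smul {A B : DCoh.D X} (f : A ⟶ B) (a : k) :
    (Dv X).map (a • f).op = a • (Dv X).map f.op := by
  have h : a • f = (a • 𝟙 A) ≫ f := by rw [Linear.smul_comp, Category.id_comp]
  rw [h, op_comp, Functor.map_comp, Dv_map_smul_id, Linear.comp_smul, Category.comp_id]

end Linear

/-- The value of duality at a K-flat complex. -/
def dvObjIso {E : CochainComplex X.Modules ℤ} (hE : DCoh.IsKFlat E) :
    (Dv X).obj (op (DerivedCategory.Q.obj E)) ≅ DerivedCategory.Q.obj ((hCx E).obj (Jc X)) :=
  haveI : IsIso (DerivedCategory.Q.map ((hMap ((resXπ X).app E)).app (Jc X))) :=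
    (DerivedCategory.isIso_Q_map_iff_quasiIso (C := X.Modules) _).2
      (quasiIso_hMap _ (isKFlat_resX E) hE (quasiIso_resXπ E) _)
  (dvIso X).app (op E) ≪≫ (asIso (DerivedCategory.Q.map ((hMap ((resXπ X).app E)).app (Jc X)))).symm

theorem dvObjIso_natural {E F : CochainComplex X.Modules ℤ} (hE : DCoh.IsKFlat E) (hF : DCoh.IsKFlat F)
    (f : E ⟶ F) :
    (Dv X).map (DerivedCategory.Q.map f).op ≫ (dvObjIso hE).hom =
      (dvObjIso hF).hom ≫ DerivedCategory.Q.map ((hMap f).app (Jc X)) := by
  rw [Dv_map_Q]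
  simp only [dvObjIso, Iso.trans_hom, Iso.app_hom, Iso.symm_hom, asIso_inv, Category.assoc,
    Iso.inv_hom_id_app_assoc]
  refine congrArg (_ ≫ ·) ?_
  rw [IsIso.comp_inv_eq, Category.assoc, IsIso.eq_inv_comp]
  show _ ≫ DerivedCategory.Q.map _ = _
  rw [← Functor.map_comp, ← Functor.map_comp, hMap_app_comp, hMap_app_comp, (resXπ X).naturality, Functor.id_map]
  rfl

theorem isPerfect_Dv {A : DCoh.D X} (hA : DCoh.IsPerfect A) : DCoh.IsPerfect ((Dv X).obj (op A)) := by
  let E := (resX X).obj (DerivedCategory.Q.objPreimage A)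
  let e : DerivedCategory.Q.obj E ≅ A := resXIso A
  exact isPerfect_iso ((dvObjIso (isKFlat_resX _)).symm ≪≫ (Dv X).mapIso e.symm.op)
    (isPerfect_hCx (isKFlat_resX _) (isPerfect_iso e.symm hA) (ηc X) (quasiIso_ηc X))

end Groth.Agent.PerfDual
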