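import Mathlib

/-!
# Distinguished triangles in a triangulated full subcategory
-/

set_option autoImplicit false
set_option backward.isDefEq.respectTransparency false

open CategoryTheory CategoryTheory.Limits CategoryTheory.Pretriangulated

noncomputable section

namespace Groth.Agent.PerfTri

variable {C : Type*} [Category C] [Preadditive C] [HasZeroObject C] [HasShift C ℤ]
  [∀ n : ℤ, (shiftFunctor C n).Additive] [Pretriangulated C]
  (P : ObjectProperty C) [P.IsTriangulated]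

/-- A triangle with vertices in the subcategory. -/
def lift (T : Triangle C) (h₁ : P T.obj₁) (h₂ : P T.obj₂) (h₃ : P T.obj₃) : Triangle P.FullSubcategory :=
  Triangle.mk (ObjectProperty.homMk T.mor₁ : (⟨T.obj₁, h₁⟩ : P.FullSubcategory) ⟶ ⟨T.obj₂, h₂⟩)
    (ObjectProperty.homMk T.mor₂ : (⟨T.obj₂, h₂⟩ : P.FullSubcategory) ⟶ ⟨T.obj₃, h₃⟩)
    (P.ι.preimage ((show P.ι.obj ⟨T.obj₃, h₃⟩ ⟶ (P.ι.obj ⟨T.obj₁, h₁⟩)⟦(1 : ℤ)⟧ from T.mor₃) ≫
      ((P.ι.commShiftIso (1 : ℤ)).app ⟨T.obj₁, h₁⟩).inv))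

theorem lift_distinguished (T : Triangle C) (hT : T ∈ distTriang C) (h₁ : P T.obj₁) (h₂ : P T.obj₂)
    (h₃ : P T.obj₃) : lift P T h₁ h₂ h₃ ∈ distTriang P.FullSubcategory := by
  refine isomorphic_distinguished _ hT _ (Triangle.isoMk _ _ (Iso.refl _) (Iso.refl _) (Iso.refl _)
    ((Category.comp_id _).trans (Category.id_comp _).symm) ((Category.comp_id _).trans (Category.id_comp _).symm) ?_)
  show (P.ι.map (P.ι.preimage (X := ⟨T.obj₃, h₃⟩) ((show P.ι.obj ⟨T.obj₃, h₃⟩ ⟶ (P.ι.obj ⟨T.obj₁, h₁⟩)⟦(1 : ℤ)⟧ from T.mor₃) ≫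
    ((P.ι.commShiftIso (1 : ℤ)).app ⟨T.obj₁, h₁⟩).inv)) ≫ ((P.ι.commShiftIso (1 : ℤ)).app ⟨T.obj₁, h₁⟩).hom) ≫ (𝟙 _)⟦(1 : ℤ)⟧' =
    𝟙 (P.ι.obj ⟨T.obj₃, h₃⟩) ≫ T.mor₃
  rw [P.ι.map_preimage, Category.assoc _ _ ((P.ι.commShiftIso (1 : ℤ)).app ⟨T.obj₁, h₁⟩).hom, Iso.inv_hom_id,
    Category.comp_id, CategoryTheory.Functor.map_id]
  exact (Category.comp_id _).trans (Category.id_comp _).symm

end Groth.Agent.PerfTri
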