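import Groth.Agent.PerfDual.Basic
import Groth.Agent.DCohLib.TriRes

/-!
# Duality and distinguished triangles
-/

set_option autoImplicit false
set_option linter.style.haveILetI false
set_option backward.isDefEq.respectTransparency false
set_option maxHeartbeats 800000

universe u

open CategoryTheory CategoryTheory.Limits CategoryTheory.Pretriangulated AlgebraicGeometry Opposite
open Groth.Agent.DCohLib

attribute [local instance] HasDerivedCategory.standard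

noncomputable section

namespace Groth.Agent.PerfDual

variable {X : Scheme.{u}}

/-- The dual of a distinguished triangle. -/
theorem exists_dual_triangle (T : Triangle (DCoh.D X)) (hT : T ∈ distTriang (DCoh.D X)) :
    ∃ z : (Dv X).obj (op T.obj₁) ⟶ ((Dv X).obj (op T.obj₃))⟦(1 : ℤ)⟧,
      Triangle.mk ((Dv X).map T.mor₂.op) ((Dv X).map T.mor₁.op) z ∈ distTriang (DCoh.D X) := by
  obtain ⟨P, Q', φ, hP, hQ, -, -, ⟨e⟩⟩ := exists_resolved T.invRotate (inv_rot_of_distTriang T hT)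
  let S := CochainComplex.mappingCone.triangleRotateShortComplex φ
  have hS := shortExact_hSeq (CochainComplex.mappingCone.triangleRotateShortComplexSplitting φ) (Jc X)
  have hC : DCoh.IsKFlat (CochainComplex.mappingCone φ) := isKFlat_cone φ hP hQ
  have hP1 : DCoh.IsKFlat (P⟦(1 : ℤ)⟧) := DCohMore.isKFlat_shift hP 1
  let T₀ := DerivedCategory.Q.mapTriangle.obj (CochainComplex.mappingCone.triangle φ)
  let e' : T₀.rotate ≅ T := (rotate (DCoh.D X)).mapIso e ≪≫ ((triangleRotation (DCoh.D X)).counitIso.app T)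
  let c := (DerivedCategory.Q.commShiftIso (1 : ℤ) (C := CochainComplex X.Modules ℤ) (D := DCoh.D X)).app P
  let a₁ : DerivedCategory.Q.obj Q' ≅ T.obj₁ := Triangle.π₁.mapIso e'
  let a₂ : DerivedCategory.Q.obj (CochainComplex.mappingCone φ) ≅ T.obj₂ := Triangle.π₂.mapIso e'
  let a₃ : DerivedCategory.Q.obj (P⟦(1 : ℤ)⟧) ≅ T.obj₃ := c ≪≫ Triangle.π₃.mapIso e'
  have c₁ : DerivedCategory.Q.map S.f ≫ a₂.hom = a₁.hom ≫ T.mor₁ := e'.hom.comm₁
  have c₂ : DerivedCategory.Q.map S.g ≫ a₃.hom = a₂.hom ≫ T.mor₂ := by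
    refine Eq.trans ?_ e'.hom.comm₂
    exact (Category.assoc _ _ _).symm
  let j₁ := (Dv X).mapIso a₁.op ≪≫ dvObjIso hQ
  let j₂ := (Dv X).mapIso a₂.op ≪≫ dvObjIso hC
  let j₃ := (Dv X).mapIso a₃.op ≪≫ dvObjIso hP1
  have d₁ : (Dv X).map T.mor₁.op ≫ j₁.hom = j₂.hom ≫ DerivedCategory.Q.map ((hMap S.f).app (Jc X)) := by
    refine Eq.trans (Category.assoc _ _ _).symm (Eq.trans ?_ (Category.assoc _ _ _).symm)
    rw [← dvObjIso_natural hQ hC S.f, Functor.mapIso_hom, Functor.mapIso_hom, ← Category.assoc,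
      ← Functor.map_comp, ← Functor.map_comp]
    exact congrArg (fun x => (Dv X).map x ≫ _) (congrArg Quiver.Hom.op c₁.symm)
  have d₂ : (Dv X).map T.mor₂.op ≫ j₂.hom = j₃.hom ≫ DerivedCategory.Q.map ((hMap S.g).app (Jc X)) := by
    refine Eq.trans (Category.assoc _ _ _).symm (Eq.trans ?_ (Category.assoc _ _ _).symm)
    rw [← dvObjIso_natural hC hP1 S.g, Functor.mapIso_hom, Functor.mapIso_hom, ← Category.assoc,
      ← Functor.map_comp, ← Functor.map_comp]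
    exact congrArg (fun x => (Dv X).map x ≫ _) (congrArg Quiver.Hom.op c₂.symm)
  let T₁ := DerivedCategory.triangleOfSES hS
  refine ⟨j₁.hom ≫ T₁.mor₃ ≫ j₃.inv⟦(1 : ℤ)⟧', isomorphic_distinguished _
    (DerivedCategory.triangleOfSES_distinguished hS) _ (Triangle.isoMk _ _ j₃ j₂ j₁ d₂ d₁ ?_)⟩
  show (j₁.hom ≫ T₁.mor₃ ≫ j₃.inv⟦(1 : ℤ)⟧') ≫ j₃.hom⟦(1 : ℤ)⟧' = j₁.hom ≫ T₁.mor₃
  rw [Category.assoc, Category.assoc, ← Functor.map_comp, j₃.inv_hom_id]
  refine congrArg (_ ≫ ·) ?_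
  erw [CategoryTheory.Functor.map_id, Category.comp_id]

/-- Duality inverts the shift by one. -/
theorem nonempty_Dv_shift_one (A : DCoh.D X) :
    Nonempty (((Dv X).obj (op (A⟦(1 : ℤ)⟧)))⟦(1 : ℤ)⟧ ≅ (Dv X).obj (op A)) := by
  obtain ⟨z, hz⟩ := exists_dual_triangle (contractibleTriangle A).rotate
    (rot_of_distTriang _ (contractible_distinguished A))
  let B := ((Dv X).obj (op (contractibleTriangle A).rotate.obj₂))
  have h0 : IsZero B := (Dv X).map_isZero (isZero_zero (DCoh.D X)).op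
  haveI : IsIso z := (Triangle.isZero₂_iff_isIso₃ (Triangle.mk _ _ z) hz).1 h0
  exact ⟨(asIso z).symm⟩

/-- Duality negates shifts. -/
theorem nonempty_Dv_shift (A : DCoh.D X) (n : ℤ) :
    Nonempty ((Dv X).obj (op (A⟦n⟧)) ≅ ((Dv X).obj (op A))⟦-n⟧) := by
  let s : ∀ a b c : ℤ, a + b = c → ∀ B : DCoh.D X, B⟦c⟧ ≅ B⟦a⟧⟦b⟧ := fun a b c h B =>
    (shiftFunctorAdd' (DCoh.D X) a b c h).app B
  induction n using Int.induction_on with
  | zero => exact ⟨(Dv X).mapIso ((shiftFunctorZero (DCoh.D X) ℤ).app A).op.symm ≪≫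
      ((shiftFunctorZero (DCoh.D X) ℤ).app _).symm⟩
  | succ i hi =>
    obtain ⟨e⟩ := hi
    obtain ⟨e'⟩ := nonempty_Dv_shift_one (A⟦(i : ℤ)⟧)
    refine ⟨(Dv X).mapIso (s i 1 (i + 1) rfl A).op.symm ≪≫ ((shiftFunctorCompIsoId (DCoh.D X) (1 : ℤ) (-1)
      (by omega)).app _).symm ≪≫ (shiftFunctor (DCoh.D X) (-1 : ℤ)).mapIso (e' ≪≫ e) ≪≫
      (s (-i) (-1) (-(i + 1)) (by omega) _).symm⟩
  | pred i hi =>
    obtain ⟨e⟩ := hi
    obtain ⟨e'⟩ := nonempty_Dv_shift_one (A⟦(-(i : ℤ) - 1)⟧)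
    refine ⟨e'.symm ≪≫ (shiftFunctor (DCoh.D X) (1 : ℤ)).mapIso ((Dv X).mapIso
      (s (-(i : ℤ) - 1) 1 (-(i : ℤ)) (by omega) A).op ≪≫ e) ≪≫ (s (-(-(i : ℤ))) 1 (-(-(i : ℤ) - 1)) (by omega) _).symm⟩

end Groth.Agent.PerfDual
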